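import Groth.Agent.Lib.GGDesc10.Main
import Groth.Agent.Lib.QCohTwist9.Basic
import Groth.Agent.Lib.CurveMult.GGCurve
import Groth.Agent.Lib.Ample.GenLocusPull
import Groth.Agent.Lib.Jets.ZeroIdeal

/-!
# Sections of invertible modules generating at a point
-/

set_option autoImplicit false
set_option linter.style.haveILetI false
set_option backward.isDefEq.respectTransparency false
set_option maxHeartbeats 1000000

universe u

open CategoryTheory CategoryTheory.Limits AlgebraicGeometry Opposite TopologicalSpace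
open GrothLib.InvExt (mres fres IsGen)
open GrothLib.Mero.Zero (gsecOf gsecOf_mres)
open scoped TensorProduct

noncomputable section

namespace GrothLib.RegSecStrat20

variable {X X' : Scheme.{u}}

/-- A global section generates at a point. -/
def Good (L : X.Modules) (x : X) (s : Γ(L, ⊤)) : Prop :=
  x ∈ CohB1.genLocus L (FinCov.homOfSection s)

theorem gsecOf_homOfSection {L : X.Modules} (s : Γ(L, ⊤)) (U : X.Opens) :
    gsecOf (FinCov.homOfSection s) U = mres L le_top s :=
  FinCov.homOfSection_one s U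

/-- The criterion in a chart. -/
theorem good_iff {L : X.Modules} {U : X.Opens} {e : Γ(L, U)} (he : IsGen L U e) {x : X} (hx : x ∈ U)
    {s : Γ(L, ⊤)} {c : Γ(X, U)} (hc : mres L le_top s = c • e) :
    Good L x s ↔ IsUnit (X.presheaf.germ U x hx c) :=
  QCohTwist9.mem_genLocus_iff _ he ((gsecOf_homOfSection s U).trans hc) hx

theorem exists_chart_coeff {L : X.Modules} {U : X.Opens} {e : Γ(L, U)} (he : IsGen L U e) (s : Γ(L, ⊤)) :
    ∃ c : Γ(X, U), mres L le_top s = c • e := by
  obtain ⟨c, hc⟩ := he.exists_smul_eq le_rfl (mres L le_top s)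
  exact ⟨c, by rwa [InvExt.mres_self] at hc⟩

/-- A generating morphism gives a generating section. -/
theorem good_of_mem_genLocus {L : X.Modules} (hL : PicF.IsInvertible L) {σ : Coh.structureModule X ⟶ L}
    {x : X} (hx : x ∈ CohB1.genLocus L σ) : Good L x (gsecOf σ ⊤) := by
  obtain ⟨U, e, hxU, he⟩ := InvExt.exists_gen_nhd hL x
  obtain ⟨c, hc⟩ := exists_chart_coeff he (gsecOf σ ⊤)
  rw [good_iff he hxU hc, ← QCohTwist9.mem_genLocus_iff σ he ((gsecOf_mres σ le_top).symm.trans hc) hxU]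
  exact hx

/-- The sections not generating at a point form a submodule. -/
def badSub {L : X.Modules} (hL : PicF.IsInvertible L) (x : X) : Submodule Γ(X, ⊤) Γ(L, ⊤) where
  carrier := {s | ¬ Good L x s}
  zero_mem' := by
    obtain ⟨U, e, hxU, he⟩ := InvExt.exists_gen_nhd hL x
    show ¬ Good L x 0
    rw [good_iff he hxU (c := 0) (by simp [mres]), map_zero]
    exact not_isUnit_zero
  add_mem' := fun {s t} hs ht => by
    obtain ⟨U, e, hxU, he⟩ := InvExt.exists_gen_nhd hL x
    obtain ⟨a, ha⟩ := exists_chart_coeff he s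
    obtain ⟨b, hb⟩ := exists_chart_coeff he t
    have hab : mres L le_top (s + t) = (a + b) • e := by
      rw [add_smul, ← ha, ← hb]
      exact map_add _ _ _
    show ¬ Good L x (s + t)
    simp only [Set.mem_setOf_eq] at hs ht
    rw [good_iff he hxU ha] at hs
    rw [good_iff he hxU hb] at ht
    rw [good_iff he hxU hab, map_add]
    exact IsLocalRing.nonunits_add hs ht
  smul_mem' := fun r s hs => by
    obtain ⟨U, e, hxU, he⟩ := InvExt.exists_gen_nhd hL x
    obtain ⟨a, ha⟩ := exists_chart_coeff he s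
    have hra : mres L le_top (r • s) = (fres X le_top r * a) • e := by
      rw [mul_smul, ← ha]
      exact InvExt.mres_smul L le_top r s
    show ¬ Good L x (r • s)
    simp only [Set.mem_setOf_eq] at hs
    rw [good_iff he hxU ha] at hs
    rw [good_iff he hxU hra, map_mul, IsUnit.mul_iff]
    exact fun h => hs h.2

theorem mem_badSub {L : X.Modules} {hL : PicF.IsInvertible L} {x : X} {s : Γ(L, ⊤)} :
    s ∈ badSub hL x ↔ ¬ Good L x s := Iff.rfl

/-- A globally generated invertible module has a generating section at each point. -/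
theorem exists_good_of_gg {L : X.Modules} (hL : PicF.IsInvertible L) (h : Curv2.IsGloballyGenerated L)
    (x : X) : ∃ s : Γ(L, ⊤), Good L x s := by
  by_contra hbad
  push Not at hbad
  obtain ⟨U, e, hxU, he⟩ := InvExt.exists_gen_nhd hL x
  obtain ⟨ι, s, hs⟩ := CurveMult.spanned_of_isGloballyGenerated h
  obtain ⟨V, hVU, hxV, hV⟩ := hs U e x hxU
  have heV : IsGen L V (mres L hVU e) := he.restrict hVU
  suffices ∃ a : Γ(X, V), mres L hVU e = a • mres L hVU e ∧ ¬ IsUnit (X.presheaf.germ V x hxV a) by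
    obtain ⟨a, ha, hau⟩ := this
    have h1 : a = 1 := heV.smul_left_injective le_rfl (by rw [InvExt.mres_self, one_smul]; exact ha.symm)
    exact hau (by rw [h1, map_one]; exact isUnit_one)
  have key : ∀ m ∈ Submodule.span Γ(X, V) (Set.range fun i => mres L (le_top : V ≤ ⊤) (s i)),
      ∃ a : Γ(X, V), m = a • mres L hVU e ∧ ¬ IsUnit (X.presheaf.germ V x hxV a) := by
    intro m hm
    induction hm using Submodule.span_induction with
    | mem y hy =>
      obtain ⟨i, rfl⟩ := hy
      obtain ⟨c, hc⟩ := exists_chart_coeff heV (s i)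
      exact ⟨c, hc, fun hu => hbad (s i) ((good_iff heV hxV hc).2 hu)⟩
    | zero => exact ⟨0, by simp, by rw [map_zero]; exact not_isUnit_zero⟩
    | add y z _ _ hy hz =>
      obtain ⟨a, rfl, ha⟩ := hy
      obtain ⟨b, rfl, hb⟩ := hz
      exact ⟨a + b, (add_smul _ _ _).symm, by rw [map_add]; exact IsLocalRing.nonunits_add ha hb⟩
    | smul r y _ hy =>
      obtain ⟨a, rfl, ha⟩ := hy
      exact ⟨r * a, (mul_smul _ _ _).symm, by rw [map_mul, IsUnit.mul_iff]; exact fun h => ha h.2⟩
  exact key _ hV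

/-- A section not generating at the image does not generate after pulling back. -/
theorem not_good_pullSec (π : X' ⟶ X) {L : X.Modules} (hL : PicF.IsInvertible L)
    (hL' : PicF.IsInvertible ((Scheme.Modules.pullback π).obj L)) {x' : X'} {s : Γ(L, ⊤)}
    (h : ¬ Good L (π x') s) :
    ¬ Good ((Scheme.Modules.pullback π).obj L) x'
      (QCoh.pullSec π L (le_top : (⊤ : X'.Opens) ≤ π ⁻¹ᵁ ⊤) s) := by
  let L' := (Scheme.Modules.pullback π).obj L
  obtain ⟨U, e, hxU, he⟩ := InvExt.exists_gen_nhd hL (π x')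
  obtain ⟨c, hc⟩ := exists_chart_coeff he s
  obtain ⟨V, e', hxV, he'⟩ := InvExt.exists_gen_nhd hL' x'
  have hW : V ⊓ π ⁻¹ᵁ U ≤ π ⁻¹ᵁ U := inf_le_right
  have heW : IsGen L' (V ⊓ π ⁻¹ᵁ U) (mres L' (inf_le_left : V ⊓ π ⁻¹ᵁ U ≤ V) e') := he'.restrict inf_le_left
  have hxW : x' ∈ V ⊓ π ⁻¹ᵁ U := ⟨hxV, hxU⟩
  obtain ⟨a, ha⟩ := heW.exists_smul_eq le_rfl (QCoh.pullSec π L hW e)
  rw [InvExt.mres_self] at ha
  let η : L ⟶ (Scheme.Modules.pushforward π).obj L' := (Scheme.Modules.pullbackPushforwardAdjunction π).unit.app L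
  have hres : mres L' le_top (QCoh.pullSec π L (le_top : (⊤ : X'.Opens) ≤ π ⁻¹ᵁ ⊤) s) =
      (π.appLE U (V ⊓ π ⁻¹ᵁ U) hW c * a) • mres L' (inf_le_left : V ⊓ π ⁻¹ᵁ U ≤ V) e' := by
    have h1 : mres L' le_top (QCoh.pullSec π L (le_top : (⊤ : X'.Opens) ≤ π ⁻¹ᵁ ⊤) s) =
        QCoh.pullSec π L hW (mres L le_top s) := by
      show L'.presheaf.map _ (L'.presheaf.map _ (η.app ⊤ s)) =
        L'.presheaf.map _ (η.app U (L.presheaf.map _ s))
      erw [Ample.app_mres η (le_top : U ≤ ⊤) s]
      show _ = L'.presheaf.map _ (L'.presheaf.map _ (η.app ⊤ s))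
      rw [← ConcreteCategory.comp_apply, ← ConcreteCategory.comp_apply, ← Functor.map_comp, ← Functor.map_comp]
      rfl
    rw [h1, hc, QCoh.pullSec_smul, ha, smul_smul]
  rw [good_iff heW hxW hres, map_mul, IsUnit.mul_iff]
  rintro ⟨h1, -⟩
  rw [Scheme.Hom.appLE, CommRingCat.comp_apply, TopCat.Presheaf.germ_res_apply,
    ← Scheme.Hom.germ_stalkMap_apply π U x' hxU] at h1
  exact h ((good_iff he hxU hc).2 (IsLocalHom.map_nonunit (f := (π.stalkMap x').hom) _ h1))

/-- Global sections of a flat base change lie in the span of pullbacks of global sections. -/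
theorem mem_span_pullSec {A A' : Type u} [CommRing A] [CommRing A'] (ψ : A →+* A')
    {f : X ⟶ Spec (CommRingCat.of A)} [QuasiCompact f] [QuasiSeparated f] {g' : X' ⟶ X}
    {f' : X' ⟶ Spec (CommRingCat.of A')} [Flat (Spec.map (CommRingCat.ofHom ψ))]
    (H : IsPullback g' f' f (Spec.map (CommRingCat.ofHom ψ))) (F : X.Modules) [F.IsQuasicoherent]
    (t : Γ((Scheme.Modules.pullback g').obj F, ⊤)) :
    t ∈ Submodule.span Γ(X', ⊤)
      (Set.range fun s : Γ(F, ⊤) => QCoh.pullSec g' F (le_top : (⊤ : X'.Opens) ≤ g' ⁻¹ᵁ ⊤) s) := by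
  let g := Spec.map (CommRingCat.ofHom ψ)
  haveI := FlatBC.isIso_bcMap H F
  haveI := QCoh.isQuasicoherent_pushforward f F
  let G := (Scheme.Modules.pushforward f).obj F
  let F' := (Scheme.Modules.pullback g').obj F
  letI : Algebra Γ(Spec (CommRingCat.of A), ⊤) Γ(Spec (CommRingCat.of A'), ⊤) :=
    (g.appLE ⊤ ⊤ le_top).hom.toAlgebra
  have hbij : Function.Bijective ((AffBC.bcMap H F).app ⊤) := by
    haveI := Scheme.Modules.Hom.isIso_iff_isIso_app.1 (inferInstance : IsIso (AffBC.bcMap H F)) ⊤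
    exact ConcreteCategory.bijective_of_isIso _
  obtain ⟨t₁, ht₁⟩ := hbij.2 (show Γ((Scheme.Modules.pushforward f').obj F', ⊤) from t)
  obtain ⟨z, rfl⟩ := (QCoh.bijective_sectionsMap g G (le_top : (⊤ : (Spec (CommRingCat.of A')).Opens) ≤ g ⁻¹ᵁ ⊤) rfl
    (isAffineOpen_top _) (isAffineOpen_top _)).2 t₁
  rw [← ht₁]
  induction z using TensorProduct.induction_on generalizing t with
  | zero => simp only [map_zero]; exact Submodule.zero_mem _
  | add x y hx hy =>
    rw [map_add, map_add]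
    exact Submodule.add_mem _ (hx _ rfl) (hy _ rfl)
  | tmul c s =>
    rw [QCoh.sectionsMap_tmul, Scheme.Modules.Hom.app_smul]
    erw [AffBC.bcMap_pullSec H F le_top s]
    show (show Γ(X', ⊤) from f'.app ⊤ c) •
      (show Γ(F', ⊤) from QCoh.pullSec g' F (le_top : (⊤ : X'.Opens) ≤ g' ⁻¹ᵁ ⊤) s) ∈ _
    exact Submodule.smul_mem _ _ (Submodule.subset_span ⟨s, rfl⟩)

/-- A generating section over a flat base change forces one below. -/
theorem exists_good_of_flat_bc {A A' : Type u} [CommRing A] [CommRing A'] (ψ : A →+* A')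
    {f : X ⟶ Spec (CommRingCat.of A)} [QuasiCompact f] [QuasiSeparated f] {g' : X' ⟶ X}
    {f' : X' ⟶ Spec (CommRingCat.of A')} [Flat (Spec.map (CommRingCat.ofHom ψ))]
    (H : IsPullback g' f' f (Spec.map (CommRingCat.ofHom ψ))) {L : X.Modules} [L.IsQuasicoherent]
    (hL : PicF.IsInvertible L) (hL' : PicF.IsInvertible ((Scheme.Modules.pullback g').obj L))
    (hgg : Curv2.IsGloballyGenerated ((Scheme.Modules.pullback g').obj L)) (x' : X') :
    ∃ s : Γ(L, ⊤), Good L (g' x') s := by
  by_contra hall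
  push Not at hall
  obtain ⟨t, ht⟩ := exists_good_of_gg hL' hgg x'
  have hle : Submodule.span Γ(X', ⊤) (Set.range fun s : Γ(L, ⊤) =>
      QCoh.pullSec g' L (le_top : (⊤ : X'.Opens) ≤ g' ⁻¹ᵁ ⊤) s) ≤ badSub hL' x' := by
    rw [Submodule.span_le]
    rintro _ ⟨s, rfl⟩
    exact not_good_pullSec g' hL hL' (hall s)
  exact hle (mem_span_pullSec ψ H L t) ht

/-- Generation is preserved by pullback. -/
theorem exists_mem_genLocus_pullback (π : X' ⟶ X) {L : X.Modules} (hL : PicF.IsInvertible L) {x' : X'}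
    {s : Γ(L, ⊤)} (h : Good L (π x') s) :
    ∃ σ : Coh.structureModule X' ⟶ (Scheme.Modules.pullback π).obj L,
      x' ∈ CohB1.genLocus ((Scheme.Modules.pullback π).obj L) σ := by
  obtain ⟨v⟩ := Ample.nonempty_pullback_structureModule π
  exact ⟨v.inv ≫ (Scheme.Modules.pullback π).map (FinCov.homOfSection s),
    (Ample.genLocus_pullback π L hL (FinCov.homOfSection s) v.symm).ge h⟩

end GrothLib.RegSecStrat20
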