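import Groth.Agent.Lib.RegSecStrat20.Good
import Groth.Agent.Lib.QCoh.AvoidSub
import Groth.Agent.Lib.K0Sub.KerUnit
import Groth.Agent.Lib.WeakAss.Basic
import Groth.Agent.Lib.Snapper.Positive
import Mathlib.Algebra.Module.Submodule.Union

/-!
# Regular sequences of sections over an infinite field
-/

set_option autoImplicit false
set_option linter.style.haveILetI false
set_option backward.isDefEq.respectTransparency false
set_option maxHeartbeats 1000000

universe u

open CategoryTheory CategoryTheory.Limits AlgebraicGeometry Opposite TopologicalSpace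
open GrothLib.InvExt (mres fres IsGen)
open GrothLib.Mero.Zero (gsecOf gsecOf_mres)

noncomputable section

namespace GrothLib.RegSecStrat20

variable {X : Scheme.{u}}

/-- The zero scheme avoids the points where the section generates. -/
theorem notMem_support_of_mem_genLocus {L : X.Modules} (hL : PicF.IsInvertible L)
    (σ : Coh.structureModule X ⟶ L) {x : X} (hx : x ∈ CohB1.genLocus L σ) :
    x ∉ (PicF2.zeroScheme L σ).support := by
  obtain ⟨V, e, hxV, he⟩ := InvExt.exists_gen_nhd hL x
  obtain ⟨W, hW, hxW, hWV⟩ := exists_isAffineOpen_mem_and_subset (show x ∈ V ⊓ CohB1.genLocus L σ from ⟨hxV, hx⟩)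
  have he' : IsGen L W (mres L (hWV.trans inf_le_left) e) := he.restrict _
  obtain ⟨c, hc⟩ := he'.exists_smul_eq le_rfl (gsecOf σ W)
  rw [InvExt.mres_self] at hc
  have hunit : ∀ y (hy : y ∈ W), IsUnit (X.presheaf.germ W y hy c) := fun y hy =>
    (QCohTwist9.mem_genLocus_iff σ he' hc hy).1 (hWV hy).2
  have hcu : IsUnit c := RingedSpace.isUnit_of_isUnit_germ X.toLocallyRingedSpace.toRingedSpace W c hunit
  have hideal : (PicF2.zeroScheme L σ).ideal ⟨W, hW⟩ = ⊤ := by
    rw [Jets.zeroScheme_ideal_gen hL σ ⟨W, hW⟩ he' hc, Ideal.span_singleton_eq_top]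
    exact hcu
  intro hsup
  rw [Scheme.IdealSheafData.mem_support_iff_of_mem (U := ⟨W, hW⟩) hxW, hideal] at hsup
  simp at hsup
  exact hsup hxW

variable (k : Type u) [Field k] [Infinite k] (φ : k →+* Γ(X, ⊤))

include φ in
/-- Finitely many points are simultaneously avoided by one section. -/
theorem exists_good_of_finite {L : X.Modules} (hL : PicF.IsInvertible L)
    (hgood : ∀ x : X, ∃ s : Γ(L, ⊤), Good L x s) {P : Set X} (hP : P.Finite) :
    ∃ σ : Coh.structureModule X ⟶ L, ∀ x ∈ P, x ∈ CohB1.genLocus L σ := by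
  letI : Module k Γ(L, ⊤) := Module.compHom _ φ
  haveI := hP.to_subtype
  let p : P → Submodule k Γ(L, ⊤) := fun x =>
    { carrier := {s | s ∈ badSub hL x.1}
      zero_mem' := Submodule.zero_mem (badSub hL x.1)
      add_mem' := fun hs ht => Submodule.add_mem (badSub hL x.1) hs ht
      smul_mem' := fun c s hs => Submodule.smul_mem (badSub hL x.1) (φ c) hs }
  obtain ⟨s, hs⟩ := Submodule.exists_forall_notMem_of_forall_ne_top p fun x htop => by
    obtain ⟨s, hs⟩ := hgood x.1
    have hmem : s ∈ p x := htop ▸ Submodule.mem_top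
    exact hmem hs
  exact ⟨FinCov.homOfSection s, fun x hx => not_not.1 (hs ⟨x, hx⟩)⟩

/-- A coherent module on a noetherian scheme has finitely many associated points. -/
theorem finite_assPoints [IsNoetherian X] {M : X.Modules} (hM : Coh.IsCoh M) :
    {x : X | Curv2.IsAssPoint M x}.Finite := by
  obtain ⟨t, ht⟩ := isCompact_univ.elim_finite_subcover (fun U : X.affineOpens => (U.1 : Set X))
    (fun U => U.1.2) fun x _ => by
      obtain ⟨U, hU, hxU, -⟩ := exists_isAffineOpen_mem_and_subset (U := (⊤ : X.Opens)) (x := x) trivial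
      exact Set.mem_iUnion.2 ⟨⟨U, hU⟩, hxU⟩
  refine Set.Finite.subset (t.finite_toSet.biUnion fun U _ => QCoh.finite_weakAssPoints M hM U.2) ?_
  intro x hx
  obtain ⟨U, hU, hxU⟩ := Set.mem_iUnion₂.1 (ht (Set.mem_univ x))
  exact Set.mem_iUnion₂.2 ⟨U, hU, hxU, (WeakAss.isAssPoint_iff_isWeakAssPoint x).1 hx⟩

include φ in
/-- A regular sequence of any length exists. -/
theorem exists_regularSeq [IsNoetherian X] {L : X.Modules} (hL : PicF.IsInvertible L)
    (hgood : ∀ x : X, ∃ s : Γ(L, ⊤), Good L x s) {F : X.Modules} (hF : Coh.IsCoh F) (r : ℕ) :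
    ∃ σ : Fin r → (Coh.structureModule X ⟶ L), ∀ (j : Fin r) (x : X),
      Curv2.IsAssPoint ((Scheme.Modules.pushforward
          (⨆ (l : Fin r) (_ : l.val < j.val), PicF2.zeroScheme L (σ l)).subschemeι).obj
        ((Scheme.Modules.pullback
          (⨆ (l : Fin r) (_ : l.val < j.val), PicF2.zeroScheme L (σ l)).subschemeι).obj F)) x →
        x ∉ (PicF2.zeroScheme L (σ j)).support := by
  have step : ∀ I : X.IdealSheafData, ∃ τ : Coh.structureModule X ⟶ L, ∀ x : X,
      Curv2.IsAssPoint ((Scheme.Modules.pushforward I.subschemeι).obj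
        ((Scheme.Modules.pullback I.subschemeι).obj F)) x → x ∉ (PicF2.zeroScheme L τ).support := fun I => by
    obtain ⟨τ, hτ⟩ := exists_good_of_finite k φ hL hgood
      (finite_assPoints (K0Sub.isCoh_pushPull I.subschemeι hF))
    exact ⟨τ, fun x hx => notMem_support_of_mem_genLocus hL τ (hτ x hx)⟩
  choose pick hpick using step
  let Z : ℕ → X.IdealSheafData := fun n => Nat.rec ⊥ (fun _ I => I ⊔ PicF2.zeroScheme L (pick I)) n
  have hZ : ∀ n ≤ r, (⨆ (l : Fin r) (_ : l.val < n), PicF2.zeroScheme L (pick (Z l.val))) = Z n := by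
    intro n
    induction n with
    | zero => exact fun _ => le_bot_iff.1 (iSup₂_le fun l hl => absurd hl (Nat.not_lt_zero _))
    | succ n ih =>
      intro hn
      show _ = Z n ⊔ PicF2.zeroScheme L (pick (Z n))
      rw [← ih (Nat.le_of_succ_le hn)]
      refine le_antisymm (iSup₂_le fun l hl => ?_) (sup_le (iSup₂_le fun l hl => ?_) ?_)
      · rcases Nat.lt_succ_iff_lt_or_eq.1 hl with h | h
        · exact le_sup_of_le_left (le_iSup₂_of_le l h le_rfl)
        · rw [h, ih (Nat.le_of_succ_le hn)]
          exact le_sup_right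
      · exact le_iSup₂_of_le (f := fun (l : Fin r) (_ : l.val < n + 1) => PicF2.zeroScheme L (pick (Z l.val))) l
          (Nat.lt_succ_of_lt hl) le_rfl
      · rw [ih (Nat.le_of_succ_le hn)]
        exact le_iSup₂_of_le (f := fun (l : Fin r) (_ : l.val < n + 1) => PicF2.zeroScheme L (pick (Z l.val)))
          ⟨n, hn⟩ (Nat.lt_succ_self n) le_rfl
  refine ⟨fun l => pick (Z l.val), fun j x => ?_⟩
  rw [hZ j.val j.2.le]
  exact hpick (Z j.val) x

end GrothLib.RegSecStrat20
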