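import Groth.Agent.Lib.RegSecStrat20.Seq
import Groth.Agent.Lib.GeomSS.Main
import Groth.Agent.Lib.Ample.CocPullback

/-!
# Stratification with regular sequences of sections
-/

set_option autoImplicit false
set_option linter.style.haveILetI false
set_option backward.isDefEq.respectTransparency false
set_option maxHeartbeats 1000000

universe u

open CategoryTheory CategoryTheory.Limits AlgebraicGeometry Opposite TopologicalSpace

noncomputable section

namespace GrothLib.RegSecStrat20

variable {S X : Scheme.{u}} (f : X ⟶ S) [IsProper f] (L : X.Modules)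

/-- Invertible modules with globally generated fibres are generated over a dense open of an integral base. -/
theorem exists_good_open (hL : PicF.IsInvertible L)
    (hgen : ∀ s : S, Curv2.IsGloballyGenerated
      ((Scheme.Modules.pullback (pullback.fst f (S.fromSpecResidueField s))).obj L))
    (D : Type u) [CommRing D] [IsDomain D] (g : Spec (CommRingCat.of D) ⟶ S) :
    ∃ d : D, d ≠ 0 ∧ ∀ x : ↑(pullback f g), (pullback.snd f g) x ∈ PrimeSpectrum.basicOpen d →
      ∃ s : Γ((Scheme.Modules.pullback (pullback.fst f g)).obj L, ⊤),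
        Good ((Scheme.Modules.pullback (pullback.fst f g)).obj L) x s := by
  let Y := pullback f g
  let p := pullback.snd f g
  let LT := (Scheme.Modules.pullback (pullback.fst f g)).obj L
  have hLT : PicF.IsInvertible LT := Ample.isInvertible_pullback _ hL
  haveI : LT.IsQuasicoherent := (Euler.isCoh_of_isInvertible hLT).1
  let W : Y.Opens := ⨆ s : Γ(LT, ⊤), CohB1.genLocus LT (FinCov.homOfSection s)
  let η : PrimeSpectrum D := ⟨⊥, Ideal.isPrime_bot⟩
  have hη : ∀ x : Y, p x = η → x ∈ W := by
    intro x hx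
    let K := FractionRing D
    let ψ : D →+* K := algebraMap D K
    let j := Spec.map (CommRingCat.ofHom ψ)
    haveI : Flat j := by
      rw [HasRingHomProperty.Spec_iff (P := @Flat)]
      exact RingHom.flat_algebraMap_iff.mpr (IsLocalization.flat K (nonZeroDivisors D))
    let c : ↑(Spec (CommRingCat.of K)) := IsLocalRing.closedPoint K
    have hc : j c = η := by
      apply PrimeSpectrum.ext
      show Ideal.comap ψ (IsLocalRing.maximalIdeal K) = ⊥
      rw [IsLocalRing.isField_iff_maximalIdeal_eq.mp (Field.toIsField K), ← RingHom.ker_eq_comap_bot]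
      exact (RingHom.injective_iff_ker_eq_bot ψ).mp (IsFractionRing.injective D K)
    obtain ⟨x', hx', -⟩ := Scheme.Pullback.exists_preimage_pullback (f := p) (g := j) x c (hx.trans hc.symm)
    let g' := pullback.fst p j
    let f' := pullback.snd p j
    let s := (j ≫ g) c
    let φ := S.descResidueField (Scheme.stalkClosedPointTo (j ≫ g))
    have hφ : Spec.map φ ≫ S.fromSpecResidueField s = j ≫ g :=
      Scheme.descResidueField_stalkClosedPointTo_fromSpecResidueField K S (j ≫ g)
    let h : pullback p j ⟶ pullback f (S.fromSpecResidueField s) :=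
      pullback.lift (g' ≫ pullback.fst f g) (f' ≫ Spec.map φ) (by
        rw [Category.assoc, Category.assoc, hφ, pullback.condition, ← Category.assoc, pullback.condition,
          Category.assoc])
    have hgg : Curv2.IsGloballyGenerated ((Scheme.Modules.pullback g').obj LT) := by
      refine Ample.isGloballyGenerated_of_iso ?_ (GGDesc10.isGloballyGenerated_pullback h (hgen s))
      exact (Scheme.Modules.pullbackComp h (pullback.fst f (S.fromSpecResidueField s))).app L ≪≫
        (Scheme.Modules.pullbackCongr (pullback.lift_fst _ _ _)).app L ≪≫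
        ((Scheme.Modules.pullbackComp g' (pullback.fst f g)).app L).symm
    obtain ⟨t, ht⟩ := exists_good_of_flat_bc ψ (IsPullback.of_hasPullback p j) hLT
      (Ample.isInvertible_pullback _ hLT) hgg x'
    rw [hx'] at ht
    exact Opens.mem_iSup.2 ⟨t, ht⟩
  have hclosed : IsClosed (p '' ((W : Set Y)ᶜ)) := p.isClosedMap _ W.2.isClosed_compl
  obtain ⟨_, ⟨d, rfl⟩, hdη, hd⟩ := PrimeSpectrum.isTopologicalBasis_basic_opens.exists_subset_of_mem_open
    (show η ∈ (p '' ((W : Set Y)ᶜ))ᶜ by
      rintro ⟨x, hxW, hx⟩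
      exact hxW (hη x hx)) hclosed.isOpen_compl
  refine ⟨d, ?_, fun x hx => Opens.mem_iSup.1 (by_contra fun hxW => hd hx ⟨x, hxW, rfl⟩)⟩
  rintro rfl
  exact hdη (Submodule.zero_mem _)

variable {F : X.Modules} (k : Type u) [Field k] [Infinite k]

/-- The property required of a stratum. -/
def HasRegSeq (F : X.Modules) (r : ℕ) {T : Scheme.{u}} (g : T ⟶ S) : Prop :=
  ∃ σ : Fin r → (Coh.structureModule (pullback f g) ⟶ (Scheme.Modules.pullback (pullback.fst f g)).obj L),
    ∀ (j : Fin r) (x : ↑(pullback f g)),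
      Curv2.IsAssPoint ((Scheme.Modules.pushforward
          (⨆ (l : Fin r) (_ : l.val < j.val), PicF2.zeroScheme ((Scheme.Modules.pullback (pullback.fst f g)).obj L) (σ l)).subschemeι).obj
        ((Scheme.Modules.pullback
          (⨆ (l : Fin r) (_ : l.val < j.val), PicF2.zeroScheme ((Scheme.Modules.pullback (pullback.fst f g)).obj L) (σ l)).subschemeι).obj
          ((Scheme.Modules.pullback (pullback.fst f g)).obj F))) x →
        x ∉ (PicF2.zeroScheme ((Scheme.Modules.pullback (pullback.fst f g)).obj L) (σ j)).support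

include k in
/-- A nonempty closed set contains a relatively open stratum with a regular sequence. -/
theorem exists_stratum [S.Over (Spec (CommRingCat.of k))] [IsNoetherian S] (hL : PicF.IsInvertible L)
    (hgen : ∀ s : S, Curv2.IsGloballyGenerated
      ((Scheme.Modules.pullback (pullback.fst f (S.fromSpecResidueField s))).obj L))
    (hF : Coh.IsCoh F) (r : ℕ) (Z : Closeds S) (hZ : (Z : Set S).Nonempty) :
    ∃ (T : Scheme.{u}) (g : T ⟶ S) (O : Set S), AlgebraicGeometry.IsImmersion g ∧ IsOpen O ∧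
      Set.range g = O ∩ Z ∧ (Set.range g).Nonempty ∧ HasRegSeq f L F r g := by
  classical
  obtain ⟨𝒞, hfin, hcl, hirr, hU⟩ := NoetherianSpace.exists_finite_set_isClosed_irreducible Z.isClosed
  have hne : 𝒞.Nonempty := by
    obtain ⟨z, hz⟩ := hZ
    rw [hU] at hz
    obtain ⟨C, hC, -⟩ := hz
    exact ⟨C, hC⟩
  obtain ⟨C, hC⟩ := hfin.exists_maximal hne
  let η : S := (hirr C hC.1).genericPoint
  have hηC : closure {η} = C := (hirr C hC.1).genericPoint_closure_eq.trans (hcl C hC.1).closure_eq
  let O₀ : S.Opens := ⟨(⋃₀ {C' ∈ 𝒞 | C' ≠ C})ᶜ, (show IsClosed (⋃₀ {C' ∈ 𝒞 | C' ≠ C}) by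
    rw [Set.sUnion_eq_biUnion]
    exact (hfin.subset fun C' h => h.1).isClosed_biUnion fun C' h => hcl C' h.1).isOpen_compl⟩
  have hηO : η ∈ O₀ := by
    rintro ⟨C', ⟨hC', hne'⟩, hη'⟩
    have hle : C ⊆ C' := hηC ▸ (hcl C' hC').closure_subset_iff.2 (Set.singleton_subset_iff.2 hη')
    exact hne' (le_antisymm (hC.2 hC' hle) hle)
  obtain ⟨V, hV, hηV, hVO⟩ := exists_isAffineOpen_mem_and_subset hηO
  have hVZ : (V : Set S) ∩ Z = (V : Set S) ∩ C := by
    ext s
    refine ⟨fun h => ⟨h.1, ?_⟩, fun h => ⟨h.1, hU ▸ ⟨C, hC.1, h.2⟩⟩⟩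
    have hs := h.2
    rw [hU] at hs
    obtain ⟨C', hC', hsC'⟩ := hs
    by_cases he : C' = C
    · exact he ▸ hsC'
    · exact absurd ⟨C', ⟨hC', he⟩, hsC'⟩ (hVO h.1)
  let P := hV.primeIdealOf ⟨η, hηV⟩
  let D := Γ(S, V) ⧸ P.asIdeal
  haveI : IsDomain D := Ideal.Quotient.isDomain _
  haveI : IsNoetherianRing Γ(S, V) := IsLocallyNoetherian.component_noetherian ⟨V, hV⟩
  haveI : IsNoetherianRing D := Ideal.Quotient.isNoetherianRing _
  let mk' := Ideal.Quotient.mk P.asIdeal
  haveI : IsClosedImmersion (Spec.map (CommRingCat.ofHom mk')) :=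
    IsClosedImmersion.spec_of_surjective _ Ideal.Quotient.mk_surjective
  let g₀ : Spec (CommRingCat.of D) ⟶ S := Spec.map (CommRingCat.ofHom mk') ≫ hV.fromSpec
  obtain ⟨d, hd0, hd⟩ := exists_good_open f L hL hgen D g₀
  let Dd := Localization.Away d
  let j : Spec (CommRingCat.of Dd) ⟶ Spec (CommRingCat.of D) :=
    Spec.map (CommRingCat.ofHom (algebraMap D Dd))
  haveI : IsOpenImmersion j :=
    IsOpenImmersion.of_isLocalization d
  let g := j ≫ g₀
  haveI : IsNoetherianRing Dd := IsLocalization.isNoetherianRing (Submonoid.powers d) Dd inferInstance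
  have hjr : Set.range j = (PrimeSpectrum.basicOpen d : Set (PrimeSpectrum D)) :=
    PrimeSpectrum.localization_away_comap_range Dd d
  -- the range of `g₀`
  have hr0 : Set.range g₀ = (V : Set S) ∩ C := by
    have hmk : Set.range (Spec.map (CommRingCat.ofHom mk')) = closure {P} := by
      rw [PrimeSpectrum.closure_singleton]
      refine (range_comap_of_surjective _ mk' Ideal.Quotient.mk_surjective).trans ?_
      rw [Ideal.mk_ker]
    rw [show (⇑g₀ : ↑(Spec (CommRingCat.of D)) → S) = hV.fromSpec ∘ Spec.map (CommRingCat.ofHom mk') from rfl,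
      Set.range_comp, hmk]
    have he := hV.fromSpec.isOpenEmbedding
    rw [he.toIsInducing.closure_eq_preimage_closure_image, Set.image_singleton, hV.fromSpec_primeIdealOf,
      Set.image_preimage_eq_inter_range, hηC, IsAffineOpen.range_fromSpec, Set.inter_comm]
  obtain ⟨O₁, hO₁, hO₁d⟩ : ∃ O₁ : Set S, IsOpen O₁ ∧ g₀ ⁻¹' O₁ = (PrimeSpectrum.basicOpen d : Set (PrimeSpectrum D)) := by
    haveI : AlgebraicGeometry.IsImmersion g₀ := inferInstance
    exact g₀.isEmbedding.toIsInducing.isOpen_iff.1 PrimeSpectrum.isOpen_basicOpen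
  have hrange : Set.range g = (O₁ ∩ V) ∩ Z := by
    rw [show (⇑g : ↑(Spec (CommRingCat.of Dd)) → S) = g₀ ∘ j from rfl, Set.range_comp, hjr, ← hO₁d,
      Set.image_preimage_eq_inter_range, hr0, Set.inter_assoc, hVZ]
  refine ⟨_, g, O₁ ∩ V, inferInstance, hO₁.inter V.2, hrange, ?_, ?_⟩
  · have : Nonempty (PrimeSpectrum Dd) := by
      haveI : Nontrivial Dd := (IsLocalization.injective Dd
        (powers_le_nonZeroDivisors_of_noZeroDivisors hd0)).nontrivial
      infer_instance
    exact @Set.range_nonempty _ _ this _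
  · let Y := pullback f g
    let π : Y ⟶ pullback f g₀ := pullback.lift (pullback.fst f g) (pullback.snd f g ≫ j) (by
      rw [pullback.condition, Category.assoc])
    let Li := (Scheme.Modules.pullback (pullback.fst f g)).obj L
    have hLi : PicF.IsInvertible Li := Ample.isInvertible_pullback _ hL
    let e : (Scheme.Modules.pullback π).obj ((Scheme.Modules.pullback (pullback.fst f g₀)).obj L) ≅ Li :=
      (Scheme.Modules.pullbackComp π (pullback.fst f g₀)).app L ≪≫
        (Scheme.Modules.pullbackCongr (pullback.lift_fst _ _ _)).app L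
    have hgood : ∀ x : Y, ∃ s : Γ(Li, ⊤), Good Li x s := by
      intro x
      have hπx : pullback.snd f g₀ (π x) = j (pullback.snd f g x) := by
        rw [← Scheme.Hom.comp_apply, ← Scheme.Hom.comp_apply]
        rw [pullback.lift_snd]
      obtain ⟨s, hs⟩ := hd (π x) (by rw [hπx]; exact hjr.le (Set.mem_range_self _))
      obtain ⟨σ, hσ⟩ := exists_mem_genLocus_pullback π (Ample.isInvertible_pullback _ hL) hs
      exact ⟨_, good_of_mem_genLocus hLi ((Ample.genLocus_comp_iso e σ).ge hσ)⟩
    haveI : IsLocallyNoetherian Y := LocallyOfFiniteType.isLocallyNoetherian (pullback.snd f g)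
    haveI : CompactSpace Y := QuasiCompact.compactSpace_of_compactSpace (pullback.snd f g)
    haveI : IsNoetherian Y := ⟨⟩
    exact exists_regularSeq k ((Scheme.ΓSpecIso (CommRingCat.of k)).inv ≫
      (pullback.snd f g ≫ g ≫ S ↘ Spec (CommRingCat.of k)).appTop).hom hLi hgood
      (GeomSS.isCoh_pullback' _ hF) r

include k in
/-- **Stratification.** -/
theorem exists_stratification [S.Over (Spec (CommRingCat.of k))] [IsNoetherian S] (hL : PicF.IsInvertible L)
    (hgen : ∀ s : S, Curv2.IsGloballyGenerated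
      ((Scheme.Modules.pullback (pullback.fst f (S.fromSpecResidueField s))).obj L))
    (hF : Coh.IsCoh F) (r : ℕ) (Z : Closeds S) :
    ∃ (n : ℕ) (T : Fin n → Scheme.{u}) (g : (i : Fin n) → (T i ⟶ S)),
      (∀ i, AlgebraicGeometry.IsImmersion (g i)) ∧ (∀ i, Set.range (g i) ⊆ (Z : Set S)) ∧
      (∀ s ∈ (Z : Set S), ∃! p : (i : Fin n) × ↑(T i), g p.1 p.2 = s) ∧
      ∀ i, HasRegSeq f L F r (g i) := by
  induction Z using (wellFounded_lt (α := Closeds S)).induction with
  | _ Z ih =>
    rcases (Z : Set S).eq_empty_or_nonempty with hZ | hZ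
    · exact ⟨0, fun i => i.elim0, fun i => i.elim0, fun i => i.elim0, fun i => i.elim0,
        fun s hs => absurd (hZ ▸ hs) (Set.notMem_empty s), fun i => i.elim0⟩
    obtain ⟨T₀, g₀, O, hg₀, hO, hr₀, hne, hreg₀⟩ := exists_stratum f L k hL hgen hF r Z hZ
    let Z' : Closeds S := ⟨(Z : Set S) \ O, Z.isClosed.sdiff hO⟩
    have hlt : Z' < Z := by
      refine lt_of_le_of_ne (fun s hs => hs.1) fun he => ?_
      obtain ⟨s, hs⟩ := hne
      rw [hr₀] at hs
      have : s ∈ (Z' : Set S) := he ▸ hs.2
      exact this.2 hs.1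
    obtain ⟨n, T, g, hg, hsub, hcov, hreg⟩ := ih Z' hlt
    let T' : Fin (n + 1) → Scheme.{u} := Fin.cons T₀ T
    let g' : (i : Fin (n + 1)) → (T' i ⟶ S) := Fin.cons (α := fun i => T' i ⟶ S) g₀ g
    refine ⟨n + 1, T', g', Fin.cases hg₀ hg, ?_, ?_, Fin.cases hreg₀ hreg⟩
    · refine Fin.cases ?_ fun i => (hsub i).trans fun s hs => hs.1
      show Set.range g₀ ⊆ _
      rw [hr₀]
      exact Set.inter_subset_right
    · intro s hs
      by_cases hsO : s ∈ O
      · obtain ⟨t, ht⟩ : s ∈ Set.range g₀ := hr₀ ▸ ⟨hsO, hs⟩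
        refine ⟨⟨0, t⟩, ht, ?_⟩
        rintro ⟨i, t'⟩ ht'
        induction i using Fin.cases with
        | zero =>
          haveI := hg₀
          obtain rfl : t' = t := g₀.isEmbedding.injective (ht'.trans ht.symm)
          rfl
        | succ i =>
          exact absurd hsO ((hsub i ⟨t', ht'⟩ : s ∈ (Z' : Set S)).2)
      · obtain ⟨⟨i, t⟩, hit, huniq⟩ := hcov s ⟨hs, hsO⟩
        refine ⟨⟨i.succ, t⟩, hit, ?_⟩
        rintro ⟨i', t'⟩ ht'
        induction i' using Fin.cases with
        | zero =>
          exact absurd (hr₀.le ⟨t', ht'⟩).1 hsO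
        | succ i' =>
          have := huniq ⟨i', t'⟩ ht'
          cases this
          rfl

end GrothLib.RegSecStrat20
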